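import Groth.Agent.EtDepthClopen.Sections
import Groth.Agent.Purity.CompFF
import Groth.Agent.VdimThree.ClopenFF

/-!
# Clopen subsets and restriction of finite etale covers
-/

set_option autoImplicit false
set_option backward.isDefEq.respectTransparency false
set_option backward.isDefEq.respectTransparency.types false
set_option linter.style.haveILetI false
set_option maxHeartbeats 1000000

universe u

open CategoryTheory CategoryTheory.Limits AlgebraicGeometry

noncomputable section

namespace Groth.Agent.EtDepthClopen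

open Groth.Agent.FEtGal Groth.Agent.VdimThree

variable {T X : Scheme.{u}} (i : T ⟶ X)

/-- restriction is faithful if clopen subsets of covers are detected -/
theorem faithful_of_ci (h : ∀ (Z : Scheme.{u}) (π : Z ⟶ X), IsFinite π → Etale π → CI (pullback.fst π i)) :
    (FEt.restrict i).Faithful := by
  refine ⟨fun {E F} {a b} hab => ?_⟩
  let P : Scheme.{u} := pullback (str E) (str F)
  let Γ : (E ⟶ F) → (E.left ⟶ P) := fun c => pullback.lift (𝟙 _) c.left
    (by rw [Category.id_comp]; exact (MorphismProperty.Over.w c).symm)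
  have hΓ : ∀ c, Γ c ≫ pullback.fst (str E) (str F) = 𝟙 _ := fun c => pullback.lift_fst _ _ _
  haveI : ∀ c, IsClosedImmersion (Γ c) := fun c => by
    haveI : IsClosedImmersion (Γ c ≫ pullback.fst (str E) (str F)) := by rw [hΓ]; infer_instance
    exact IsClosedImmersion.of_comp (Γ c) (pullback.fst (str E) (str F))
  haveI : ∀ c, IsOpenImmersion (Γ c) := fun c => by
    haveI : Etale (Γ c ≫ pullback.fst (str E) (str F)) := by rw [hΓ]; infer_instance
    haveI : Etale (Γ c) := Etale.of_comp (Γ c) (pullback.fst (str E) (str F))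
    exact IsOpenImmersion.of_flat_of_mono _
  let D : Set E.left := Γ a ⁻¹' Set.range (Γ b)
  have hD : IsClopen D :=
    ⟨(Γ b).isClosedEmbedding.isClosed_range.preimage (Γ a).continuous,
      (Γ b).isOpenEmbedding.isOpen_range.preimage (Γ a).continuous⟩
  have heq : pullback.fst (str E) i ≫ Γ a = pullback.fst (str E) i ≫ Γ b := by
    apply pullback.hom_ext
    · simp only [Category.assoc, hΓ]
    · simp only [Γ, Category.assoc, pullback.lift_snd]
      exact (pullback.lift_fst _ _ _).symm.trans ((congrArg
        (fun c : (FEt.restrict i).obj E ⟶ (FEt.restrict i).obj F => c.left ≫ pullback.fst (str F) i) hab).trans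
        (pullback.lift_fst _ _ _))
  have hu : D = Set.univ := (h E.left (str E) inferInstance inferInstance).eq hD isClopen_univ (by
    rw [Set.preimage_univ]
    refine Set.eq_univ_of_forall fun z => ⟨pullback.fst (str E) i z, ?_⟩
    rw [← Scheme.Hom.comp_apply, ← heq, Scheme.Hom.comp_apply])
  have hr : Set.range (Γ a) ⊆ Set.range (Γ b) := by
    rintro _ ⟨z, rfl⟩
    exact (hu ▸ Set.mem_univ z : z ∈ D)
  let l := IsOpenImmersion.lift (Γ b) (Γ a) hr
  have hl : l ≫ Γ b = Γ a := IsOpenImmersion.lift_fac _ _ _
  have hl1 : l = 𝟙 _ := by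
    have := congrArg (· ≫ pullback.fst (str E) (str F)) hl
    simpa only [Category.assoc, hΓ, Category.comp_id] using this
  rw [hl1, Category.id_comp] at hl
  exact hom_ext_left (by simpa [Γ] using congrArg (· ≫ pullback.snd (str E) (str F)) hl.symm)

/-- faithful restriction detects clopen subsets of covers -/
theorem ci_of_faithful [(FEt.restrict i).Faithful] (Z : FEt.Cat X) : CI (pullback.fst Z.hom i) := by
  intro W hW hW0
  let one : FEt.Cat X := MorphismProperty.Over.mk ⊤ (𝟙 X) (MorphismProperty.id_mem _ _)
  let D := coprodObj one one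
  let a := inlHom one one
  let b := inrHom one one
  haveI : IsIso one.hom := inferInstanceAs (IsIso (𝟙 X))
  haveI : IsIso ((FEt.restrict i).obj one).hom := inferInstanceAs (IsIso (pullback.snd (𝟙 X) i))
  have hR : IsCompl (Set.range ((FEt.restrict i).map a).left) (Set.range ((FEt.restrict i).map b).left) := by
    rw [range_restrict_map, range_restrict_map]
    exact (isCompl_inlHom one one).map (CompleteLatticeHom.setPreimage _)
  obtain ⟨-, huniq⟩ := bijective_two ((FEt.restrict i).map a) ((FEt.restrict i).map b) hR ((FEt.restrict i).obj Z)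
  obtain ⟨hexX, -⟩ := bijective_two a b (isCompl_inlHom one one) Z
  have key : ∀ ψ : Z ⟶ D, ((FEt.restrict i).map ψ).left ⁻¹' Set.range ((FEt.restrict i).map a).left =
      pullback.fst Z.hom i ⁻¹' (ψ.left ⁻¹' Set.range a.left) := fun ψ => by
    rw [range_restrict_map, ← Set.preimage_comp, ← Set.preimage_comp]
    refine congrArg (· ⁻¹' Set.range a.left) (funext fun z => ?_)
    exact congr($((isPullback_restrict_map i ψ).w).base z)
  obtain ⟨ψ, hψ⟩ := hexX W hW
  obtain ⟨ψ', hψ'⟩ := hexX ∅ isClopen_empty
  have e : ψ = ψ' := (FEt.restrict i).map_injective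
    (huniq _ _ (by rw [key, key, hψ, hψ', hW0, Set.preimage_empty]))
  rw [← hψ, e, hψ']

/-- fully faithful restriction -/
theorem full_faithful_of_ci_cs
    (h : ∀ (Z : Scheme.{u}) (π : Z ⟶ X), IsFinite π → Etale π → CI (pullback.fst π i) ∧ CS (pullback.fst π i)) :
    (FEt.restrict i).Full ∧ (FEt.restrict i).Faithful :=
  Purity.restrict_full_faithful_of_clopen i fun Z π hf he C hC => by
    obtain ⟨W, hW, hWC⟩ := (h Z π hf he).2 C hC
    exact ⟨W, ⟨hW, hWC⟩, fun W' hW' => (h Z π hf he).1.eq hW'.1 hW (hW'.2.trans hWC.symm)⟩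

theorem cs_of_full_faithful [(FEt.restrict i).Full] [(FEt.restrict i).Faithful] (Z : FEt.Cat X) :
    CS (pullback.fst Z.hom i) := fun C hC => by
  obtain ⟨W, hW, -⟩ := existsUnique_clopen_of_full_faithful i Z C hC
  exact ⟨W, hW⟩

end Groth.Agent.EtDepthClopen
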