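import Groth.Agent.FlatDepth.Serre
import Groth.Agent.NormalScheme.Flat
import Groth.Agent.Hensel.Depth
import Groth.Agent.Catenary.Hartshorne
import Groth.Agent.EtPBC.UnibrConst
import Groth.Agent.LocH.AdjDepthChange
import Groth.Agent.S2135

/-!
# Punctured spectra in flat families with reduced closed fibre
-/

set_option autoImplicit false
set_option backward.isDefEq.respectTransparency false
set_option maxHeartbeats 1000000

universe u

open IsLocalRing TensorProduct

noncomputable section

namespace Groth.Agent.EtDepthClopen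

theorem ringKrullDim_quot_nilradical_ne_zero (R : Type u) [CommRing R] [IsLocalRing R]
    (h : maximalIdeal R ∉ minimalPrimes R) : ringKrullDim (R ⧸ nilradical R) ≠ 0 := by
  intro h0
  obtain ⟨P, hP, hle⟩ := Ideal.exists_minimalPrimes_le (J := maximalIdeal R) bot_le
  haveI : P.IsPrime := hP.1.1
  haveI : Ring.KrullDimLE 0 (R ⧸ nilradical R) := Ring.krullDimLE_iff.2 h0.le
  have hPn : RingHom.ker (Ideal.Quotient.mk (nilradical R)) ≤ P := by
    rw [Ideal.mk_ker]
    exact nilradical_le_prime P
  haveI := Ideal.map_isPrime_of_surjective (f := Ideal.Quotient.mk (nilradical R)) Ideal.Quotient.mk_surjective hPn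
  haveI : (P.map (Ideal.Quotient.mk (nilradical R))).IsMaximal := Ideal.IsPrime.isMaximal' ‹_›
  have hmax : P.IsMaximal := by
    have e : (P.map (Ideal.Quotient.mk (nilradical R))).comap (Ideal.Quotient.mk _) = P :=
      (Ideal.comap_map_of_surjective' _ Ideal.Quotient.mk_surjective P).trans (sup_of_le_left hPn)
    rw [← e]
    exact Ideal.comap_isMaximal_of_surjective _ Ideal.Quotient.mk_surjective
  exact h (IsLocalRing.eq_maximalIdeal hmax ▸ hP)

theorem map_nilradical_le {R S : Type u} [CommRing R] [CommRing S] [Algebra R S] :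
    (nilradical R).map (algebraMap R S) ≤ nilradical S :=
  Ideal.map_le_iff_le_comap.2 fun _ ha => mem_nilradical.2 ((mem_nilradical.1 ha).map (algebraMap R S))

/-- the punctured spectrum is connected when it is so after dividing by nilpotents -/
theorem isConnected_punctured_of_quotient {S : Type u} [CommRing S] [IsLocalRing S] (I : Ideal S)
    (hI : I ≤ nilradical S) [IsLocalRing (S ⧸ I)]
    (h : IsConnected {x : PrimeSpectrum (S ⧸ I) | x.asIdeal ≠ maximalIdeal (S ⧸ I)}) :
    IsConnected {x : PrimeSpectrum S | x.asIdeal ≠ maximalIdeal S} := by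
  let f := PrimeSpectrum.comap (Ideal.Quotient.mk I)
  have hm : (maximalIdeal (S ⧸ I)).comap (Ideal.Quotient.mk I) = maximalIdeal S :=
    IsLocalRing.eq_maximalIdeal (Ideal.comap_isMaximal_of_surjective _ Ideal.Quotient.mk_surjective)
  have hinj : ∀ x : PrimeSpectrum (S ⧸ I), (f x).asIdeal = maximalIdeal S ↔ x.asIdeal = maximalIdeal (S ⧸ I) := by
    intro x
    show x.asIdeal.comap (Ideal.Quotient.mk I) = _ ↔ _
    rw [← hm]
    exact ⟨fun e => Ideal.comap_injective_of_surjective _ Ideal.Quotient.mk_surjective e, fun e => by rw [e]⟩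
  have him : f '' {x | x.asIdeal ≠ maximalIdeal (S ⧸ I)} = {x | x.asIdeal ≠ maximalIdeal S} := by
    ext y
    constructor
    · rintro ⟨x, hx, rfl⟩
      exact fun e => hx ((hinj x).1 e)
    · intro hy
      have hy' : y ∈ Set.range f := by
        have hyI : I ≤ y.asIdeal := hI.trans (nilradical_le_prime y.asIdeal)
        haveI := Ideal.map_isPrime_of_surjective (f := Ideal.Quotient.mk I) Ideal.Quotient.mk_surjective
          (Ideal.mk_ker.trans_le hyI)
        exact ⟨⟨y.asIdeal.map (Ideal.Quotient.mk I), inferInstance⟩, PrimeSpectrum.ext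
          ((Ideal.comap_map_of_surjective' _ Ideal.Quotient.mk_surjective _).trans
            (sup_of_le_left (Ideal.mk_ker.trans_le hyI)))⟩
      obtain ⟨x, rfl⟩ := hy'
      exact ⟨x, fun e => hy ((hinj x).2 e), rfl⟩
  rw [← him]
  exact h.image _ (PrimeSpectrum.continuous_comap _).continuousOn

variable (R A S : Type u) [CommRing R] [CommRing A] [CommRing S] [IsLocalRing R] [IsLocalRing A] [IsLocalRing S]
  [IsNoetherianRing R] [IsNoetherianRing A] [IsNoetherianRing S] [Algebra R A] [Algebra A S] [Algebra R S]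
  [IsScalarTower R A S] [IsLocalHom (algebraMap R A)] [IsLocalHom (algebraMap A S)] [Module.Flat R A]
  [Module.Flat A S]

/-- base with non-minimal closed point: depth two -/
theorem isConnected_punctured_of_base (hmS : (maximalIdeal A).map (algebraMap A S) = maximalIdeal S)
    (hF : _root_.IsReduced (A ⧸ (maximalIdeal R).map (algebraMap R A)))
    (hd : ringKrullDim (A ⧸ (maximalIdeal R).map (algebraMap R A)) ≠ 0)
    (hR : maximalIdeal R ∉ minimalPrimes R) :
    IsConnected {x : PrimeSpectrum S | x.asIdeal ≠ maximalIdeal S} := by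
  haveI : IsLocalHom (algebraMap R S) := by
    rw [IsScalarTower.algebraMap_eq R A S]
    infer_instance
  haveI : Module.Flat R S := Module.Flat.trans R A S
  let I := (nilradical R).map (algebraMap R S)
  have hI : I ≤ nilradical S := map_nilradical_le
  haveI : Nontrivial (S ⧸ I) := Ideal.Quotient.nontrivial_iff.2 fun e =>
    (maximalIdeal.isMaximal S).ne_top (top_le_iff.1 (e.ge.trans (hI.trans (nilradical_le_prime _))))
  haveI : IsLocalRing (S ⧸ I) := IsLocalRing.of_surjective' _ Ideal.Quotient.mk_surjective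
  haveI : Nontrivial (R ⧸ nilradical R) := Ideal.Quotient.nontrivial_iff.2 fun e =>
    (maximalIdeal.isMaximal R).ne_top (top_le_iff.1 (e.ge.trans (nilradical_le_prime _)))
  haveI : IsLocalRing (R ⧸ nilradical R) := IsLocalRing.of_surjective' _ Ideal.Quotient.mk_surjective
  haveI : _root_.IsReduced (R ⧸ nilradical R) :=
    (Ideal.isRadical_iff_quotient_reduced _).1 (Ideal.radical_isRadical ⊥)
  refine isConnected_punctured_of_quotient I hI (Catenary.isConnected_punctured ?_)
  let J := (maximalIdeal R).map (algebraMap R A)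
  haveI : Nontrivial (A ⧸ J) := Ideal.Quotient.nontrivial_iff.2 fun e =>
    (maximalIdeal.isMaximal A).ne_top (top_le_iff.1 (e.ge.trans CMFlat.map_le))
  haveI : IsLocalRing (A ⧸ J) := IsLocalRing.of_surjective' _ Ideal.Quotient.mk_surjective
  have h1 : (1 : ℕ∞) ≤ LocCoh.depth R (R ⧸ nilradical R) := by
    rw [LocH.depth_eq_of_surjective (A := R) (B := R ⧸ nilradical R) Ideal.Quotient.mk_surjective]
    exact NormalScheme.one_le_depth _ (ringKrullDim_quot_nilradical_ne_zero R hR)
  have h2 : (1 : ℕ∞) ≤ LocCoh.depth S (S ⧸ (maximalIdeal R).map (algebraMap R S) • (⊤ : Submodule S S)) := by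
    have e1 : (1 : ℕ∞) ≤ LocCoh.depth A (A ⧸ J) := by
      rw [LocH.depth_eq_of_surjective (A := A) (B := A ⧸ J) Ideal.Quotient.mk_surjective]
      exact NormalScheme.one_le_depth _ hd
    refine e1.trans ((LocH.idealDepth_le_baseChange (S := S) (maximalIdeal A) (A ⧸ J)).trans ?_)
    rw [hmS]
    refine le_of_eq (LocH.idealDepth_congr ?_ _)
    exact (Algebra.TensorProduct.quotIdealMapEquivTensorQuot S J).symm.toLinearEquiv.trans
      (Submodule.quotEquivOfEq _ _ (by rw [Ideal.map_map, ← IsScalarTower.algebraMap_eq, smul_eq_mul, Ideal.mul_top]))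
  have h3 := FlatDepth.depth_tensor (R := R) (S := S) S (R ⧸ nilradical R)
  rw [show LocCoh.depth S (S ⊗[R] (R ⧸ nilradical R)) = LocCoh.depth S (S ⧸ I) from
    LocH.idealDepth_congr (Algebra.TensorProduct.quotIdealMapEquivTensorQuot S (nilradical R)).symm.toLinearEquiv _] at h3
  rw [← LocH.depth_eq_of_surjective (A := S) (B := S ⧸ I) Ideal.Quotient.mk_surjective]
  refine le_trans ?_ h3.ge
  exact le_trans (by norm_num) (add_le_add h1 h2)

theorem hasUniqueMinimalPrime_of_quotient {S : Type u} [CommRing S] (I : Ideal S) (hI : I ≤ nilradical S)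
    (h : CAlgX.HasUniqueMinimalPrime (S ⧸ I)) : CAlgX.HasUniqueMinimalPrime S := by
  obtain ⟨P, hP, hu⟩ := h
  haveI : P.IsPrime := hP.1.1
  have hle : ∀ q : Ideal S, q.IsPrime → P.comap (Ideal.Quotient.mk I) ≤ q := fun q hq => by
    haveI := hq
    have hker : RingHom.ker (Ideal.Quotient.mk I) ≤ q := Ideal.mk_ker.trans_le (hI.trans (nilradical_le_prime q))
    haveI := Ideal.map_isPrime_of_surjective (f := Ideal.Quotient.mk I) Ideal.Quotient.mk_surjective hker
    obtain ⟨Q, hQ, hQle⟩ := Ideal.exists_minimalPrimes_le (J := q.map (Ideal.Quotient.mk I)) bot_le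
    rw [hu Q hQ] at hQle
    exact (Ideal.comap_mono hQle).trans
      ((Ideal.comap_map_of_surjective' _ Ideal.Quotient.mk_surjective q).trans (sup_of_le_left hker)).le
  exact ⟨P.comap (Ideal.Quotient.mk I), ⟨⟨inferInstance, bot_le⟩, fun q hq _ => hle q hq.1⟩,
    fun q hq => le_antisymm (hq.2 ⟨inferInstance, bot_le⟩ (hle q hq.1.1)) (hle q hq.1.1)⟩

theorem isGeomUnibranch_of_nil_aux {A B : Type u} [CommRing A] [IsLocalRing A] [CommRing B] [IsLocalRing B]
    (f : A →+* B) (hf : Function.Surjective f) (hnil : RingHom.ker f ≤ nilradical A) (hB : CAlg2.IsGeomUnibranch B)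
    (R : Type u) [CommRing R] [IsLocalRing R] [Algebra A R] [IsLocalHom (algebraMap A R)]
    [_root_.Hensel.IsStrictHenselization A R] : CAlg2.IsGeomUnibranch A := by
  let I := RingHom.ker f
  let J := I.map (algebraMap A R)
  have hJnil : J ≤ nilradical R := (Ideal.map_mono hnil).trans map_nilradical_le
  obtain ⟨h1, h2, h3⟩ := Hensel.quotient_local_setup A R I (RingHom.ker_ne_top f)
  haveI := h1; haveI := h2; haveI := h3
  haveI := Hensel.isStrictHenselization_quotient (A := A) (S := R) I
  let e : (A ⧸ I) ≃+* B := RingHom.quotientKerEquivOfSurjective hf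
  letI : Algebra (A ⧸ I) B := e.toRingHom.toAlgebra
  letI : Algebra B (R ⧸ J) := ((algebraMap (A ⧸ I) (R ⧸ J)).comp e.symm.toRingHom).toAlgebra
  haveI : IsScalarTower (A ⧸ I) B (R ⧸ J) := IsScalarTower.of_algebraMap_eq fun a => by
    show _ = algebraMap _ (R ⧸ J) (e.symm (e a))
    rw [e.symm_apply_apply]
  haveI : IsLocalHom (algebraMap B (R ⧸ J)) := ⟨fun x hx => by
    have h4 := (IsUnit.of_map (algebraMap (A ⧸ I) (R ⧸ J)) (e.symm x) hx).map e
    rwa [e.apply_symm_apply] at h4⟩
  haveI := EtPBC.isStrictHenselization_of_bijective (A := A ⧸ I) (B := B) (S := R ⧸ J) e.bijective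
  exact (S2135.result (A := A) (Ash := R)).2
    (hasUniqueMinimalPrime_of_quotient J hJnil ((S2135.result (A := B) (Ash := R ⧸ J)).1 hB))

omit [IsNoetherianRing R] [IsNoetherianRing A] [IsNoetherianRing S] [Algebra R S] [IsScalarTower R A S]
  [Module.Flat R A] [Module.Flat A S] [IsLocalHom (algebraMap R A)] [IsLocalHom (algebraMap A S)] [IsLocalRing S] in
/-- base with minimal closed point: geometrically unibranch -/
theorem isGeomUnibranch_of_base (hR : maximalIdeal R ∈ minimalPrimes R) (B : Type u) [CommRing B] [IsLocalRing B]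
    (e : (A ⧸ (maximalIdeal R).map (algebraMap R A)) ≃+* B) (hB : CAlg2.IsGeomUnibranch B) :
    CAlg2.IsGeomUnibranch A := by
  let f : A →+* B := e.toRingHom.comp (Ideal.Quotient.mk _)
  have hf : Function.Surjective f := e.surjective.comp Ideal.Quotient.mk_surjective
  have hnil : RingHom.ker f ≤ nilradical A := by
    intro a ha
    have ha' : a ∈ (maximalIdeal R).map (algebraMap R A) :=
      Ideal.Quotient.eq_zero_iff_mem.1 (e.map_eq_zero_iff.1 ha)
    refine Ideal.map_le_iff_le_comap.2 (fun r hr => mem_nilradical.2 (IsNilpotent.map (mem_nilradical.1 ?_) _)) ha'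
    rw [nilradical_eq_sInf, Ideal.mem_sInf]
    intro P hP
    haveI : P.IsPrime := hP
    rwa [le_antisymm (IsLocalRing.le_maximalIdeal hP.ne_top) (hR.2 ⟨hP, bot_le⟩ (IsLocalRing.le_maximalIdeal hP.ne_top))]
  obtain ⟨hloc, hsh⟩ := Hensel.exists_strictHenselization A
  exact @isGeomUnibranch_of_nil_aux A B _ _ _ _ f hf hnil hB _ _ _ _ hloc hsh

/-- punctured spectrum of an irreducible spectrum -/
theorem isConnected_punctured_of_unique {S : Type u} [CommRing S] [IsLocalRing S]
    (h : CAlgX.HasUniqueMinimalPrime S) (hd : ringKrullDim S ≠ 0) :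
    IsConnected {x : PrimeSpectrum S | x.asIdeal ≠ maximalIdeal S} := by
  obtain ⟨P, hP, hu⟩ := h
  haveI : P.IsPrime := hP.1.1
  have hmin : ∀ x : PrimeSpectrum S, P ≤ x.asIdeal := fun x => by
    obtain ⟨Q, hQ, hle⟩ := Ideal.exists_minimalPrimes_le (J := x.asIdeal) bot_le
    exact (hu Q hQ) ▸ hle
  have hne : P ≠ maximalIdeal S := fun e => hd (by
    refine le_antisymm ?_ ringKrullDim_nonneg_of_nontrivial
    refine Ring.krullDimLE_iff.1 (Ring.krullDimLE_zero_iff.2 fun Q hQ => ?_)
    have : Q = maximalIdeal S := le_antisymm (IsLocalRing.le_maximalIdeal hQ.ne_top) (e ▸ hmin ⟨Q, hQ⟩)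
    rw [this]
    infer_instance)
  refine ⟨⟨⟨P, inferInstance⟩, hne⟩, IsPreconnected.subset_closure (isPreconnected_singleton (x := (⟨P, inferInstance⟩ : PrimeSpectrum S)))
    (Set.singleton_subset_iff.2 hne) fun x _ => ?_⟩
  rw [← specializes_iff_mem_closure, ← PrimeSpectrum.le_iff_specializes]
  exact hmin x

end Groth.Agent.EtDepthClopen
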