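import Groth.Agent.EtDepthClopen.Main
import Groth.Agent.EtDepthClopen.Ring
import Groth.Agent.Purity.AtInfinity
import Groth.Agent.FpqcDescent.Immersion
import Groth.Agent.CMFlat.Scheme
import Groth.Agent.UnibranchEtale.Components
import Groth.Agent.SmLocalST.EtReg
import Groth.Prelude.Def_CInt
import Mathlib.AlgebraicGeometry.Geometrically.Basic
import Mathlib.Topology.GDelta.Basic

/-!
# Etale depth two in flat families with reduced fibres
-/

set_option autoImplicit false
set_option backward.isDefEq.respectTransparency false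
set_option backward.isDefEq.respectTransparency.types false
set_option linter.style.haveILetI false
set_option maxHeartbeats 1000000

universe u

open CategoryTheory CategoryTheory.Limits AlgebraicGeometry Opposite IsLocalRing

noncomputable section

namespace Groth.Agent.EtDepthClopen

variable {X U S : Scheme.{u}}

theorem exists_ne_specializes (X : Scheme.{u}) (x : X) (h : ringKrullDim (X.presheaf.stalk x) ≠ 0) :
    ∃ t : X, t ⤳ x ∧ t ≠ x := by
  by_contra hc
  push Not at hc
  refine h (le_antisymm (Ring.krullDimLE_iff.1 (Ring.krullDimLE_zero_iff.2 fun Q hQ => ?_))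
    ringKrullDim_nonneg_of_nontrivial)
  have h1 : X.fromSpecStalk x ⟨Q, hQ⟩ = x := hc _ (by
    have : X.fromSpecStalk x ⟨Q, hQ⟩ ∈ Set.range (X.fromSpecStalk x) := ⟨_, rfl⟩
    rwa [Scheme.range_fromSpecStalk] at this)
  have h2 : (⟨Q, hQ⟩ : PrimeSpectrum (X.presheaf.stalk x)) = closedPoint (X.presheaf.stalk x) :=
    (X.fromSpecStalk x).injective (h1.trans (Scheme.fromSpecStalk_closedPoint).symm)
  have h3 : Q = maximalIdeal (X.presheaf.stalk x) := congrArg PrimeSpectrum.asIdeal h2
  rw [h3]
  infer_instance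

/-- the closure of a maximal point of a locally noetherian scheme has interior -/
theorem interior_closure_nonempty [IsLocallyNoetherian S] (s : S)
    (h : maximalIdeal (S.presheaf.stalk s) ∈ minimalPrimes (S.presheaf.stalk s)) :
    (interior (closure ({s} : Set S))).Nonempty := by
  have hmax : ∀ t : S, t ⤳ s → t = s := fun t ht => by
    obtain ⟨p, rfl⟩ : t ∈ Set.range (S.fromSpecStalk s) := by rw [Scheme.range_fromSpecStalk]; exact ht
    have hp : p = closedPoint (S.presheaf.stalk s) := PrimeSpectrum.ext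
      (le_antisymm (IsLocalRing.le_maximalIdeal p.2.ne_top)
        (h.2 ⟨p.2, bot_le⟩ (IsLocalRing.le_maximalIdeal p.2.ne_top)))
    rw [hp]
    exact Scheme.fromSpecStalk_closedPoint
  obtain ⟨V, hV, hsV, -⟩ := exists_isAffineOpen_mem_and_subset (U := ⊤) (x := s) trivial
  haveI : IsAffine (V : Scheme.{u}) := hV
  haveI : IsNoetherian (V : Scheme.{u}) := ⟨⟩
  let s' : (V : Scheme.{u}) := ⟨s, hsV⟩
  let Z := irreducibleComponent s'
  have hZ : IsIrreducible Z := isIrreducible_irreducibleComponent
  have hg := hZ.isGenericPoint_genericPoint isClosed_irreducibleComponent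
  have hgs : hZ.genericPoint = s' :=
    Subtype.ext (hmax _ ((hg.specializes mem_irreducibleComponent).map continuous_subtype_val))
  obtain ⟨O, hO, hOne, hOZ⟩ := TopologicalSpace.NoetherianSpace.exists_isOpen_nonempty_subset_irreducibleComponent Z
    (irreducibleComponent_mem_irreducibleComponents s')
  obtain ⟨o, ho⟩ := hOne
  have hsub : Subtype.val '' O ⊆ closure ({s} : Set S) := by
    rintro _ ⟨o', ho', rfl⟩
    have h1 : s' ⤳ o' := hgs ▸ hg.specializes (hOZ ho')
    exact (h1.map continuous_subtype_val).mem_closure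
  exact ⟨o.1, (interior_maximal hsub (V.2.isOpenMap_subtype_val O hO)) ⟨o, ho, rfl⟩⟩

/-- the local step -/
theorem punctured_connected [IsLocallyNoetherian X] [IsLocallyNoetherian S] (f : X ⟶ S) [Flat f]
    (hred : ∀ s : S, IsReduced (f.fiber s)) {X' : Scheme.{u}} (g : X' ⟶ X) [Etale g] (x : X')
    (hd : (1 : WithBot ℕ∞) ≤ ringKrullDim ↑(CInt.fiberStalk f (g x)))
    (hgu : maximalIdeal (S.presheaf.stalk (f (g x))) ∈ minimalPrimes (S.presheaf.stalk (f (g x))) →
      CAlg2.IsGeomUnibranch ↑(CInt.fiberStalk f (g x))) :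
    ringKrullDim (X'.presheaf.stalk x) ≠ 0 ∧
    ∀ (T : Type u) [CommRing T] [IsLocalRing T] [Algebra (X'.presheaf.stalk x) T]
      [IsLocalHom (algebraMap (X'.presheaf.stalk x) T)]
      [_root_.Hensel.IsStrictHenselization (X'.presheaf.stalk x) T],
      _root_.IsConnected {p : PrimeSpectrum T | p.asIdeal ≠ maximalIdeal T} := by
  haveI : IsLocallyNoetherian X' := LocallyOfFiniteType.isLocallyNoetherian g
  let R := S.presheaf.stalk (f (g x))
  let A := X.presheaf.stalk (g x)
  let A' := X'.presheaf.stalk x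
  letI : Algebra R A := (f.stalkMap (g x)).hom.toAlgebra
  letI : Algebra A A' := (g.stalkMap x).hom.toAlgebra
  haveI : IsLocalHom (algebraMap R A) := inferInstanceAs (IsLocalHom (f.stalkMap (g x)).hom)
  haveI : IsLocalHom (algebraMap A A') := inferInstanceAs (IsLocalHom (g.stalkMap x).hom)
  haveI : Module.Flat R A := Flat.stalkMap f (g x)
  haveI : Module.Flat A A' := Flat.stalkMap g x
  haveI : Algebra.FormallyUnramified A A' := FormallyUnramified.stalkMap g x
  haveI : Algebra.EssFiniteType A A' := LocallyOfFiniteType.stalkMap g x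
  obtain ⟨e⟩ := CMFlat.nonempty_fiberStalk_equiv f (g x)
  haveI : IsReduced (f.fiber (f (g x))) := hred _
  have hF : _root_.IsReduced (A ⧸ (maximalIdeal R).map (algebraMap R A)) :=
    isReduced_of_injective e e.injective
  have hd1 : (1 : WithBot ℕ∞) ≤ ringKrullDim (A ⧸ (maximalIdeal R).map (algebraMap R A)) :=
    hd.trans_eq (ringKrullDim_eq_of_ringEquiv e).symm
  have hA'd : (1 : WithBot ℕ∞) ≤ ringKrullDim A' :=
    (hd1.trans (ringKrullDim_quotient_le _)).trans (SmLocalST.ringKrullDim_le_of_flat_local A A')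
  refine ⟨fun h0 => absurd (h0 ▸ hA'd) (by decide), fun T _ _ _ _ _ => ?_⟩
  letI : Algebra A T := ((algebraMap A' T).comp (algebraMap A A')).toAlgebra
  letI : Algebra R T := ((algebraMap A T).comp (algebraMap R A)).toAlgebra
  haveI : IsScalarTower A A' T := IsScalarTower.of_algebraMap_eq fun _ => rfl
  haveI : IsScalarTower R A T := IsScalarTower.of_algebraMap_eq fun _ => rfl
  haveI : Module.Flat A' T := Hensel.strictHenselization_flat A' T
  haveI : Module.Flat A T := Module.Flat.trans A A' T
  haveI : IsLocalHom (algebraMap A T) := RingHom.isLocalHom_comp (algebraMap A' T) (algebraMap A A')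
  haveI : IsNoetherianRing T := (Hensel.strictHenselization_isNoetherianRing_iff A' T).1 inferInstance
  by_cases hR : maximalIdeal R ∈ minimalPrimes R
  · refine isConnected_punctured_of_unique ((S2135.result (A := A') (Ash := T)).1 ?_) fun h0 => ?_
    · exact UnibranchEtale.isGeomUnibranch_stalk_of_etale g x (isGeomUnibranch_of_base R A hR _ e (hgu hR))
    · rw [Hensel.strictHenselization_ringKrullDim A' T] at h0
      exact absurd (h0 ▸ hA'd) (by decide)
  · refine isConnected_punctured_of_base R A T ?_ hF (fun h0 => absurd (h0 ▸ hd1) (by decide)) hR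
    rw [IsScalarTower.algebraMap_eq A A' T, ← Ideal.map_map, Algebra.FormallyUnramified.map_maximalIdeal,
      Hensel.strictHenselization_map_maximalIdeal A' T]

/-- clopen subsets over etale schemes in flat families -/
theorem ci_cs_of_flat [IsLocallyNoetherian X] [IsLocallyNoetherian S] (f : X ⟶ S) [Flat f]
    (hred : ∀ s : S, IsReduced (f.fiber s)) (j : U ⟶ X) [IsOpenImmersion j]
    (hY : ∀ y : X, y ∉ Set.range j.base → (1 : WithBot ℕ∞) ≤ ringKrullDim ↑(CInt.fiberStalk f y))
    (hgu : ∀ y : X, y ∉ Set.range j.base →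
      maximalIdeal (S.presheaf.stalk (f y)) ∈ minimalPrimes (S.presheaf.stalk (f y)) →
      CAlg2.IsGeomUnibranch ↑(CInt.fiberStalk f y))
    {X' : Scheme.{u}} (g : X' ⟶ X) [Etale g] : CI (pullback.fst g j) ∧ CS (pullback.fst g j) := by
  haveI : IsLocallyNoetherian X' := LocallyOfFiniteType.isLocallyNoetherian g
  let p := pullback.fst g j
  let Uo : X'.Opens := p.opensRange
  have hout : ∀ x : X', x ∉ Uo → g x ∉ Set.range j.base := fun x hx hxj => hx (by
    show x ∈ Set.range p
    rw [Scheme.Pullback.range_fst]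
    exact hxj)
  have key : ∀ x : X', x ∉ Uo → _ := fun x hx =>
    punctured_connected f hred g x (hY _ (hout x hx)) (hgu _ (hout x hx))
  have hdense : Dense (Uo : Set X') := fun x => by
    obtain ⟨η, hη, hmax⟩ := Purity.exists_maximal_of_isClosed
      (isClosed_univ : IsClosed (Set.univ : Set X')) ⟨x, trivial⟩
    let Z := irreducibleComponent x
    have hg := (isIrreducible_irreducibleComponent (x := x)).isGenericPoint_genericPoint
      isClosed_irreducibleComponent
    refine closure_mono ?_ (hg.specializes mem_irreducibleComponent).mem_closure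
    rw [Set.singleton_subset_iff]
    by_contra hu
    obtain ⟨t, ht, htne⟩ := exists_ne_specializes X' _ (key _ hu).1
    have hZ : Z ⊆ closure {t} := fun z hz => (ht.trans (hg.specializes hz)).mem_closure
    have htZ : t ∈ Z := (irreducibleComponent_mem_irreducibleComponents x).2
      isIrreducible_singleton.closure hZ (subset_closure rfl)
    exact htne (ht.antisymm (hg.specializes htZ)).eq
  let q := pullback.fst (𝟙 X') Uo.ι
  have hrq : Set.range q = Set.range p := by
    rw [Scheme.Pullback.range_fst, Scheme.Opens.range_ι]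
    rfl
  let e := IsOpenImmersion.isoOfRangeEq p q hrq.symm
  have he : e.hom ≫ q = p := IsOpenImmersion.lift_fac _ _ _
  have hun : ∀ C, IsClopen C → ∃! W' : Set X', IsClopen W' ∧ q ⁻¹' W' = C := fun C hC => by
    refine Purity.existsUnique_clopen_of_punctured Uo hdense (fun x hx T _ _ _ _ _ => ?_) (𝟙 _)
      (fun C' hC' z hz => ?_) hC
    · have h0 : _root_.IsConnected ({closedPoint T}ᶜ : Set (PrimeSpectrum T)) := by
        have e : ({closedPoint T}ᶜ : Set (PrimeSpectrum T)) = {r | r.asIdeal ≠ maximalIdeal T} := by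
          ext r
          exact ⟨fun h e => h (PrimeSpectrum.ext e), fun h e => h (congrArg PrimeSpectrum.asIdeal e)⟩
        rw [e]
        exact (key x hx).2 T
      have h : _root_.IsConnected (SetLike.coe (FEt.puncturedSpec T)) := h0
      exact isConnected_iff_connectedSpace.1 h
    · let V : (pullback (𝟙 X') Uo.ι).Opens := ⟨C', hC'.2⟩
      haveI : QuasiCompact (V.ι ≫ q) := inferInstance
      obtain ⟨c, hc⟩ := FpqcDescent.exists_specializes_of_mem_closure (V.ι ≫ q) (x := z) (by
        refine closure_mono ?_ hz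
        rintro _ ⟨c, hc, rfl⟩
        exact ⟨⟨c, hc⟩, rfl⟩)
      exact ⟨c.1, c.2, hc⟩
  have hCS : CS q := fun C hC => (hun C hC).exists
  have hCI : CI q := fun C hC h0 => (hun ∅ isClopen_empty).unique ⟨hC, h0⟩ ⟨isClopen_empty, Set.preimage_empty⟩
  exact ⟨hCI.of_iso e he, hCS.of_iso e he⟩

/-- depth two in flat families -/
theorem depthGE_two_of_flat [IsLocallyNoetherian X] [IsLocallyNoetherian S] (f : X ⟶ S) [Flat f]
    (hred : ∀ s : S, IsReduced (f.fiber s)) (j : U ⟶ X) [IsOpenImmersion j]
    (hY : ∀ y : X, y ∉ Set.range j.base → (1 : WithBot ℕ∞) ≤ ringKrullDim ↑(CInt.fiberStalk f y))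
    (hgu : ∀ y : X, y ∉ Set.range j.base →
      maximalIdeal (S.presheaf.stalk (f y)) ∈ minimalPrimes (S.presheaf.stalk (f y)) →
      CAlg2.IsGeomUnibranch ↑(CInt.fiberStalk f y)) [EtCoh.BCCont j]
    (M : Type) [AddCommGroup M] [Finite M] : EtDepth.DepthGE j (EtCoh.const X M) 2 := by
  rw [depthGE_two_iff_isIso, isIso_iff_bijective]
  intro W
  let g : W.left ⟶ X := W.hom
  haveI : Etale g := W.prop
  obtain ⟨hCI, hCS⟩ := ci_cs_of_flat f hred j hY hgu g
  exact ⟨unitSec_const_injective j hCI, unitSec_const_surjective j hCI hCS⟩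

/-- S3377 -/
theorem depthGE_two_const_of_flat [IsLocallyNoetherian X] [IsLocallyNoetherian S] (f : X ⟶ S) [Flat f]
    (hsep : ∀ s : S, AlgebraicGeometry.geometrically (fun Z : Scheme.{u} => IsReduced Z) (f.fiberToSpecResidueField s))
    (j : U ⟶ X) [IsOpenImmersion j] [EtCoh.BCCont j]
    (hY : ∀ y : X, y ∉ Set.range j.base → (1 : WithBot ℕ∞) ≤ ringKrullDim ↑(CInt.fiberStalk f y))
    (hab : IsNowhereDense (f.base '' (Set.range j.base)ᶜ) ∨
      ∀ y : X, y ∉ Set.range j.base → CAlg2.IsGeomUnibranch ↑(CInt.fiberStalk f y))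
    (ℓ : ℕ) (hℓ : ℓ.Prime) : EtDepth.DepthGE j (EtCoh.const X (ZMod ℓ)) 2 := by
  haveI : Fact ℓ.Prime := ⟨hℓ⟩
  refine depthGE_two_of_flat f (fun s => fiber_of_geometrically
    (geometrically_iff_forall_fiberToSpecResidueField.2 hsep) s) j hY (fun y hy hmin => ?_) _
  rcases hab with ha | hb
  · exfalso
    obtain ⟨o, ho⟩ := interior_closure_nonempty (f y) hmin
    have h1 : closure ({f y} : Set S) ⊆ closure (f.base '' (Set.range j.base)ᶜ) :=
      closure_mono (Set.singleton_subset_iff.2 ⟨y, hy, rfl⟩)
    exact Set.notMem_empty o (ha ▸ interior_mono h1 ho)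
  · exact hb y hy

end Groth.Agent.EtDepthClopen
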