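import Groth.Agent.EtDepthClopen.Covers
import Groth.Agent.EtDepthX.Kit

/-!
# Depth one and two of constant sheaves and restriction of finite etale covers
-/

set_option autoImplicit false
set_option backward.isDefEq.respectTransparency false
set_option backward.isDefEq.respectTransparency.types false
set_option linter.style.haveILetI false
set_option maxHeartbeats 1000000

universe u

open CategoryTheory CategoryTheory.Limits AlgebraicGeometry Opposite

noncomputable section

namespace Groth.Agent.EtDepthClopen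

variable {X U : Scheme.{u}} (j : U ⟶ X)

theorem mono_iff_injective {F G : EtCoh.Ab X} (α : F ⟶ G) :
    Mono α ↔ ∀ W : X.Etale, Function.Injective (α.hom.app (op W)) := by
  constructor
  · intro h W
    exact EtFLC.app_injective α W
  · intro h
    haveI : Mono ((sheafToPresheaf _ _).map α) := by
      rw [NatTrans.mono_iff_mono_app]
      exact fun W => (AddCommGrpCat.mono_iff_injective _).2 (h W.unop)
    exact (sheafToPresheaf _ _).mono_of_mono_map ‹_›

theorem isIso_iff_bijective {F G : EtCoh.Ab X} (α : F ⟶ G) :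
    IsIso α ↔ ∀ W : X.Etale, Function.Bijective (α.hom.app (op W)) := by
  constructor
  · intro h W
    haveI : IsIso ((sheafToPresheaf _ _).map α) := inferInstance
    haveI : IsIso (α.hom.app (op W)) := inferInstanceAs (IsIso (((sheafToPresheaf _ _).map α).app (op W)))
    exact ConcreteCategory.bijective_of_isIso _
  · intro h
    haveI : IsIso ((sheafToPresheaf _ _).map α) := by
      rw [NatTrans.isIso_iff_isIso_app]
      rintro ⟨W⟩
      exact (ConcreteCategory.isIso_iff_bijective _).2 (h W)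
    exact isIso_of_reflects_iso α (sheafToPresheaf _ _)

variable [EtCoh.BCCont j]

theorem depthGE_one_iff_mono (F : EtCoh.Ab X) : EtDepth.DepthGE j F 1 ↔ Mono (EtDual.unitApp j F) := by
  rw [EtDepthX.depthGE_one_iff]
  exact ⟨fun h => Preadditive.mono_of_kernel_zero (h.eq_of_src _ _), fun _ => isZero_kernel_of_mono (EtDual.unitApp j F)⟩

theorem depthGE_two_iff_isIso [IsOpenImmersion j] (F : EtCoh.Ab X) :
    EtDepth.DepthGE j F 2 ↔ IsIso (EtDual.unitApp j F) := by
  obtain ⟨e⟩ := EtMV.nonempty_locCoh_one j F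
  constructor
  · intro h
    haveI := (depthGE_one_iff_mono j F).1 fun p hp => h p (by omega)
    haveI : Epi (EtDual.unitApp j F) :=
      Preadditive.epi_of_isZero_cokernel _ ((h 1 (by omega)).of_iso e)
    exact isIso_of_mono_of_epi _
  · intro h p hp
    match p, hp with
    | 0, _ => exact (depthGE_one_iff_mono j F).2 inferInstance 0 one_pos
    | 1, _ => exact (isZero_cokernel_of_epi _).of_iso e.symm

/-- the open part of a cover -/
def coverIso {X' Z : Scheme.{u}} (g : X' ⟶ X) (π : Z ⟶ X') :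
    pullback π (pullback.snd j g) ≅ pullback (π ≫ g) j :=
  ((IsPullback.of_hasPullback π (pullback.snd j g)).paste_vert (IsPullback.of_hasPullback j g).flip).isoPullback

theorem coverIso_hom_fst {X' Z : Scheme.{u}} (g : X' ⟶ X) (π : Z ⟶ X') :
    (coverIso j g π).hom ≫ pullback.fst (π ≫ g) j = pullback.fst π (pullback.snd j g) :=
  IsPullback.isoPullback_hom_fst _

/-- the trivial cover of an etale scheme -/
theorem ci_cs_of_cover (W : X.Etale) (P : ∀ {Z Y : Scheme.{u}}, (Z ⟶ Y) → Prop)
    (hP : ∀ {Z Z' Y : Scheme.{u}} (p : Z ⟶ Y) (p' : Z' ⟶ Y) (e : Z' ≅ Z), e.hom ≫ p = p' → P p → P p')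
    (h : P (pullback.fst (𝟙 W.left) (pullback.snd j W.hom))) : P (pullback.fst W.hom j) := by
  have h1 := hP _ _ (coverIso j W.hom (𝟙 W.left)).symm
    (show _ ≫ _ = pullback.fst (𝟙 W.left ≫ W.hom) j by
      rw [← coverIso_hom_fst j W.hom (𝟙 W.left), ← Category.assoc, Iso.symm_hom, Iso.inv_hom_id]
      exact Category.id_comp _) h
  rwa [Category.id_comp] at h1

variable [IsOpenImmersion j]

theorem result :
    ((∀ ℓ : ℕ, ℓ.Prime → EtDepth.DepthGE j (EtCoh.const X (ZMod ℓ)) 1) ↔
      ∀ (X' : Scheme.{u}) (g : X' ⟶ X) [Etale g], (FEt.restrict (pullback.snd j g)).Faithful) ∧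
    ((∀ ℓ : ℕ, ℓ.Prime → EtDepth.DepthGE j (EtCoh.const X (ZMod ℓ)) 2) ↔
      ∀ (X' : Scheme.{u}) (g : X' ⟶ X) [Etale g],
        (FEt.restrict (pullback.snd j g)).Full ∧ (FEt.restrict (pullback.snd j g)).Faithful) := by
  simp only [depthGE_one_iff_mono, depthGE_two_iff_isIso, mono_iff_injective, isIso_iff_bijective]
  haveI : Fact (Nat.Prime 2) := ⟨Nat.prime_two⟩
  let one : ∀ Y : Scheme.{u}, FEt.Cat Y := fun Y => MorphismProperty.Over.mk ⊤ (𝟙 Y) (MorphismProperty.id_mem _ _)
  refine ⟨⟨fun h X' g _ => faithful_of_ci _ fun Z π _ _ => ?_, fun h ℓ hℓ W => ?_⟩,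
    ⟨fun h X' g _ => full_faithful_of_ci_cs _ fun Z π _ _ => ?_, fun h ℓ hℓ W => ?_⟩⟩
  · refine (ci_of_injective j (U := Scheme.Etale.mk (π ≫ g)) (M := ZMod 2) (h 2 Nat.prime_two _)).of_iso
      (coverIso j g π) (coverIso_hom_fst j g π)
  · haveI : Etale W.hom := W.prop
    haveI := h W.left W.hom
    exact unitSec_const_injective j (ci_cs_of_cover j W @CI (fun p p' e he hp => hp.of_iso e he)
      (ci_of_faithful (pullback.snd j W.hom) (one W.left)))
  · have hb := h 2 Nat.prime_two (Scheme.Etale.mk (π ≫ g))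
    exact ⟨(ci_of_injective j (U := Scheme.Etale.mk (π ≫ g)) (M := ZMod 2) hb.1).of_iso
        (coverIso j g π) (coverIso_hom_fst j g π),
      (cs_of_surjective j (U := Scheme.Etale.mk (π ≫ g)) (M := ZMod 2) hb.2).of_iso
        (coverIso j g π) (coverIso_hom_fst j g π)⟩
  · haveI : Etale W.hom := W.prop
    obtain ⟨_, _⟩ := h W.left W.hom
    haveI : Fact ℓ.Prime := ⟨hℓ⟩
    have hi := ci_cs_of_cover j W @CI (fun p p' e he hp => hp.of_iso e he)
      (ci_of_faithful (pullback.snd j W.hom) (one W.left))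
    have hs := ci_cs_of_cover j W @CS (fun p p' e he hp => hp.of_iso e he)
      (cs_of_full_faithful (pullback.snd j W.hom) (one W.left))
    exact ⟨unitSec_const_injective j hi, unitSec_const_surjective j hi hs⟩

end Groth.Agent.EtDepthClopen
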