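import Groth.Agent.LefEssSurj.Pure
import Groth.Agent.PureExtend.LocNoeth
import Groth.Agent.TorCI.CIFlat
import Groth.Agent.TorCI.CISch
import Groth.Agent.SmLocalST.EtReg
import Groth.Agent.Hensel.Depth
import Groth.Agent.Purity.Equiv
import Groth.Agent.Purity.DepthRestrict
import Groth.Prelude.Def_EtDepth

/-!
# Homotopic depth three from purity
-/

set_option autoImplicit false
set_option backward.isDefEq.respectTransparency false
set_option backward.isDefEq.respectTransparency.types false
set_option linter.style.haveILetI false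
set_option maxHeartbeats 1000000

universe u

open CategoryTheory CategoryTheory.Limits AlgebraicGeometry TopologicalSpace IsLocalRing RingTheory.Sequence

noncomputable section

namespace Groth.Agent.EtDepthClopen

theorem isCI_of_regularLocal (A : Type u) [CommRing A] [IsRegularLocalRing A] : Pi1.IsCompleteIntersection A :=
  (TorCI.isCI_iff_regular (RingHom.id A) Function.surjective_id).2
    ⟨[], IsRegular.nil A A, by simpa using (RingHom.injective_iff_ker_eq_bot (RingHom.id A)).1 Function.injective_id⟩

/-- depth and purity pass to etale local extensions -/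
theorem depth_purity_etale (A B : Type u) [CommRing A] [CommRing B] [IsLocalRing A] [IsLocalRing B]
    [IsNoetherianRing A] [IsNoetherianRing B] [Algebra A B] [IsLocalHom (algebraMap A B)] [Module.Flat A B]
    [Algebra.FormallyUnramified A B] [Algebra.EssFiniteType A B]
    (h : (IsRegularLocalRing A ∧ (2 : WithBot ℕ∞) ≤ ringKrullDim A) ∨
      (SGA2.IsAbsCompleteIntersection A ∧ (3 : WithBot ℕ∞) ≤ ringKrullDim A)) :
    (2 : ℕ∞) ≤ LocCoh.depth B B ∧ FEt.PurityHolds B := by
  have hm := Algebra.FormallyUnramified.map_maximalIdeal (R := A) (S := B)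
  haveI : Module.FaithfullyFlat A B := Module.FaithfullyFlat.of_flat_of_isLocalHom
  refine ⟨(Hensel.depth_eq_of_map_maximalIdeal hm).symm ▸ (LefEssSurj.depth_purity_of_good A h).1, ?_⟩
  have hd := SmLocalST.ringKrullDim_le_of_flat_local A B
  rcases h with ⟨hr, h2⟩ | ⟨hc, h3⟩
  · haveI := hr
    haveI := SmLocalST.isRegularLocalRing_of_flat_unramified A B
    exact S0247.result B (h2.trans hd)
  · haveI : ((maximalIdeal A).map (algebraMap A B)).IsMaximal := hm ▸ maximalIdeal.isMaximal B
    letI := Ideal.Quotient.field ((maximalIdeal A).map (algebraMap A B))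
    refine LefEssSurj.purityHolds_ci B ((TorCI.isCI_flat_iff (A := A) (B := B)).2
      ⟨FormAlg.isCI_of_abs hc, isCI_of_regularLocal _⟩) (h3.trans hd)

/-- homotopic depth at least three -/
theorem htpDepthGE3_of_good {X U : Scheme.{u}} [IsLocallyNoetherian X] (j : U ⟶ X) [IsOpenImmersion j]
    (h : ∀ y : X, y ∉ Set.range j.base →
      (IsRegularLocalRing (X.presheaf.stalk y) ∧ (2 : WithBot ℕ∞) ≤ ringKrullDim (X.presheaf.stalk y)) ∨
      (SGA2.IsAbsCompleteIntersection (X.presheaf.stalk y) ∧ (3 : WithBot ℕ∞) ≤ ringKrullDim (X.presheaf.stalk y))) :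
    EtDepth.HtpDepthGE3 j := by
  intro X' g _
  haveI : IsLocallyNoetherian X' := LocallyOfFiniteType.isLocallyNoetherian g
  let q := pullback.snd j g
  let V : X'.Opens := q.opensRange
  have hg : ∀ x : X', x ∉ V →
      (2 : ℕ∞) ≤ LocCoh.depth (X'.presheaf.stalk x) (X'.presheaf.stalk x) ∧ FEt.PurityHolds (X'.presheaf.stalk x) := by
    intro x hx
    letI : Algebra (X.presheaf.stalk (g x)) (X'.presheaf.stalk x) := (g.stalkMap x).hom.toAlgebra
    haveI : IsLocalHom (algebraMap (X.presheaf.stalk (g x)) (X'.presheaf.stalk x)) :=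
      inferInstanceAs (IsLocalHom (g.stalkMap x).hom)
    haveI : Module.Flat (X.presheaf.stalk (g x)) (X'.presheaf.stalk x) := Flat.stalkMap g x
    haveI : Algebra.FormallyUnramified (X.presheaf.stalk (g x)) (X'.presheaf.stalk x) :=
      FormallyUnramified.stalkMap g x
    haveI : Algebra.EssFiniteType (X.presheaf.stalk (g x)) (X'.presheaf.stalk x) :=
      LocallyOfFiniteType.stalkMap g x
    refine depth_purity_etale (X.presheaf.stalk (g x)) (X'.presheaf.stalk x) (h (g x) fun hy => hx ?_)
    show x ∈ Set.range q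
    rw [Scheme.Pullback.range_snd]
    exact hy
  obtain ⟨h1, h2⟩ := Purity.restrict_full_faithful_of_depth V fun x hx => (hg x hx).1
  haveI := h1; haveI := h2
  haveI := PureExtend.essSurj_restrict_locallyNoetherian V (fun x hx => (hg x hx).1) fun W x hx =>
    LefEssSurj.purityHolds_congr (W.stalkIso x).commRingCatIsoToRingEquiv (hg x.1 hx).2
  haveI : (FEt.restrict V.ι).IsEquivalence := { }
  let e := IsOpenImmersion.isoOfRangeEq q V.ι (by rw [Scheme.Opens.range_ι]; rfl)
  haveI := LefEssSurj.restrict_isEquivalence_of_isIso e.hom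
  exact Functor.isEquivalence_of_iso
    (LefEssSurj.restrictComp e.hom V.ι q (IsOpenImmersion.isoOfRangeEq_hom_fac _ _ _)).symm

end Groth.Agent.EtDepthClopen
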