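import Groth.Agent.EtH1PBC.Clopen

/-!
# Pull back of sections of a constant etale sheaf and clopen subsets
-/

set_option autoImplicit false
set_option backward.isDefEq.respectTransparency false
set_option linter.style.haveILetI false
set_option maxHeartbeats 1000000

universe u

open CategoryTheory CategoryTheory.Limits AlgebraicGeometry Opposite

noncomputable section

namespace Groth.Agent.EtDepthClopen

open Groth.Agent.EtH0Pair Groth.Agent.EtH1PBC

variable {Z X : Scheme.{u}}

/-- a clopen subset with empty inverse image is empty -/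
def CI (p : Z ⟶ X) : Prop := ∀ C : Set X, IsClopen C → p ⁻¹' C = ∅ → C = ∅

/-- every clopen subset is an inverse image of a clopen subset -/
def CS (p : Z ⟶ X) : Prop := ∀ C' : Set Z, IsClopen C' → ∃ C : Set X, IsClopen C ∧ p ⁻¹' C = C'

theorem CI.eq {p : Z ⟶ X} (h : CI p) {C D : Set X} (hC : IsClopen C) (hD : IsClopen D)
    (he : p ⁻¹' C = p ⁻¹' D) : C = D := by
  have key : ∀ C D : Set X, IsClopen C → IsClopen D → p ⁻¹' C = p ⁻¹' D → C ⊆ D := fun C D hC hD he =>
    Set.sdiff_eq_empty.1 (h _ (IsClopen.diff hC hD) (by rw [Set.preimage_sdiff, he, sdiff_self]; rfl))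
  exact (key C D hC hD he).antisymm (key D C hD hC he.symm)

theorem CI.of_iso {Z' : Scheme.{u}} {p : Z ⟶ X} {p' : Z' ⟶ X} (e : Z' ≅ Z) (he : e.hom ≫ p = p') (h : CI p) :
    CI p' := fun C hC h0 => h C hC (Set.eq_empty_of_forall_notMem fun z hz => by
  have h1 : e.inv z ∈ p' ⁻¹' C := by
    show p' (e.inv z) ∈ C
    rw [← he, ← Scheme.Hom.comp_apply, ← Category.assoc, Iso.inv_hom_id, Category.id_comp]
    exact hz
  exact Set.notMem_empty _ (h0 ▸ h1))

theorem CS.of_iso {Z' : Scheme.{u}} {p : Z ⟶ X} {p' : Z' ⟶ X} (e : Z' ≅ Z) (he : e.hom ≫ p = p') (h : CS p) :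
    CS p' := fun C' hC' => by
  obtain ⟨C, hC, hCp⟩ := h (e.inv ⁻¹' C') (hC'.preimage e.inv.continuous)
  refine ⟨C, hC, Set.ext fun z => ?_⟩
  have h1 := Set.ext_iff.1 hCp (e.hom z)
  simp only [Set.mem_preimage] at h1 ⊢
  rw [← he, Scheme.Hom.comp_apply]
  refine h1.trans ?_
  rw [← Scheme.Hom.comp_apply, Iso.hom_inv_id]
  rfl

variable (i : Z ⟶ X) {M : Type} [AddCommGroup M]

/-- the constant section on an etale scheme -/
def cstU (U : X.Etale) (m : M) : EtCoh.sect (EtCoh.const X M) U :=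
  (EtCoh.const X M).obj.map (toTopX U).op (cst m)

theorem cstU_sub (U : X.Etale) (m m' : M) : cstU U m - cstU U m' = cstU U (m - m') := by
  unfold cstU
  rw [← map_sub, cst_sub]

theorem cstU_zero (U : X.Etale) : cstU U (0 : M) = 0 := by
  have h := cstU_sub U (0 : M) 0
  rw [sub_self, sub_self] at h
  exact h.symm

theorem eq_zero_of_notMem_cstU {U : X.Etale} {d : M} {x : U.left}
    (h : x ∉ EtShriek.sectSupp (EtCoh.const X M) U (cstU U d)) : d = 0 :=
  eq_zero_of_notMem_cst (X := X) (x := (toTopX U).left x) ((notMem_map_iff _ (toTopX U) (cst d) x).1 h)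

theorem notMem_of_sub_zero (F : EtCoh.Ab X) {U : X.Etale} {t : EtCoh.sect F U} {x : U.left}
    (h : x ∉ EtShriek.sectSupp F U (t - 0)) : x ∉ EtShriek.sectSupp F U t := by
  rwa [sub_zero] at h

/-- supports of sections of constant sheaves are clopen -/
theorem isClopen_sectSupp_const {U : X.Etale} (t : EtCoh.sect (EtCoh.const X M) U) :
    IsClopen (EtShriek.sectSupp (EtCoh.const X M) U t) := by
  refine ⟨EtSect.isClosed_sectSupp _ t, isOpen_iff_forall_mem_open.2 fun x hx => ?_⟩
  obtain ⟨m, hm⟩ := exists_cst_near t x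
  refine ⟨(EtShriek.sectSupp (EtCoh.const X M) U (t - cstU U m))ᶜ, fun y hy => by_contra fun hy' => ?_,
    (EtSect.isClosed_sectSupp _ _).isOpen_compl, hm⟩
  have h1 : y ∉ EtShriek.sectSupp (EtCoh.const X M) U (cstU U m) := by
    refine notMem_of_sub_zero _ (notMem_sub_trans _ (notMem_neg _ hy) ?_)
    rwa [sub_zero]
  have hm0 := eq_zero_of_notMem_cstU h1
  rw [hm0] at hm
  exact notMem_of_sub_zero _ (cstU_zero (M := M) U ▸ hm) hx

/-- glueing sections along a partition into clopen subsets -/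
theorem exists_sect_of_partition (G : EtCoh.Ab X) (U : X.Etale) {ι : Type*} (W : ι → Set U.left)
    (hW : ∀ k, IsClopen (W k)) (hd : ∀ k l x, x ∈ W k → x ∈ W l → k = l) (hc : ∀ x, ∃ k, x ∈ W k)
    (s : ι → EtCoh.sect G U) :
    ∃ t : EtCoh.sect G U, ∀ k x, x ∈ W k → x ∉ EtShriek.sectSupp G U (t - s k) := by
  let O : ι → U.left.Opens := fun m => ⟨W m, (hW m).isOpen⟩
  let Oe : ι → X.Etale := fun m => Scheme.Etale.mk ((O m).ι ≫ U.hom)
  let π : ∀ m, Oe m ⟶ U := fun m => MorphismProperty.Over.homMk (O m).ι rfl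
  have hrange : ∀ m, Set.range (π m).left = W m := fun m => Scheme.Opens.range_ι (O m)
  obtain ⟨t, ht⟩ := EtColimH.exists_amalg G Oe π (fun x => by
    obtain ⟨m, hm⟩ := hc x
    exact ⟨m, (hrange m).ge hm⟩)
    (fun m => G.obj.map (π m).op (s m)) fun m m' T a b hab => by
    have hmm : ∀ {A B : X.Etale} (c : A ⟶ B) (d : B ⟶ U) (z : EtCoh.sect G U),
        G.obj.map c.op (G.obj.map d.op z) = G.obj.map (c ≫ d).op z := fun c d z => by
      rw [op_comp, Functor.map_comp]
      rfl
    refine (hmm a (π m) (s m)).trans (Eq.trans ?_ (hmm b (π m') (s m')).symm)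
    rw [← hab]
    rcases isEmpty_or_nonempty T.left with hT | ⟨⟨w⟩⟩
    · exact eq_of_notMem G fun x => isEmptyElim x
    · have h1 : (a ≫ π m).left w ∈ W m := (hrange m).le ⟨a.left w, (Scheme.Hom.comp_apply _ _ _).symm⟩
      have h2 : (b ≫ π m').left w ∈ W m' := (hrange m').le ⟨b.left w, (Scheme.Hom.comp_apply _ _ _).symm⟩
      rw [hab] at h1
      exact congrArg _ (congrArg s (hd m m' _ h1 h2))
  refine ⟨t, fun k x hx => (EtSect.mem_iff G _ _).mpr ?_⟩
  obtain ⟨w, hw⟩ := (hrange k).ge hx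
  refine ⟨Oe k, π k, ⟨w, hw⟩, ?_⟩
  rw [map_sub, sub_eq_zero]
  exact ht k

theorem exists_indicator (G : EtCoh.Ab X) (U : X.Etale) {C : Set U.left} (hC : IsClopen C) (a : EtCoh.sect G U) :
    ∃ t : EtCoh.sect G U, (∀ x ∈ C, x ∉ EtShriek.sectSupp G U (t - a)) ∧
      ∀ x, x ∉ C → x ∉ EtShriek.sectSupp G U t := by
  classical
  obtain ⟨t, ht⟩ := exists_sect_of_partition G U (fun b : Bool => if b then C else Cᶜ)
    (fun b => by cases b <;> simp [hC, hC.compl])
    (fun k l x hk hl => by cases k <;> cases l <;> simp_all)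
    (fun x => by by_cases h : x ∈ C; exacts [⟨true, by simpa using h⟩, ⟨false, by simpa using h⟩])
    (fun b => if b then a else 0)
  refine ⟨t, fun x hx => ?_, fun x hx => ?_⟩
  · simpa using ht true x (by simpa using hx)
  · refine notMem_of_sub_zero G ?_
    simpa using ht false x (by simpa using hx)

variable {U : X.Etale}

/-- injectivity from the clopen condition -/
theorem unitSec_const_injective (h : CI (pullback.fst U.hom i)) :
    Function.Injective (unitSec i (EtCoh.const X M) U) := by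
  rw [injective_iff_map_eq_zero]
  intro t ht
  have h1 := (EtPushStalk.unit_eq_zero_iff i _ U t).mp ht
  have h2 : EtShriek.sectSupp (EtCoh.const X M) U t = ∅ :=
    h _ (isClopen_sectSupp_const t) (Set.eq_empty_of_forall_notMem fun p hp => h1 ⟨p, rfl⟩ hp)
  exact eq_of_notMem _ fun x => by rw [sub_zero, h2]; exact Set.notMem_empty x

/-- injectivity gives the clopen condition -/
theorem ci_of_injective [Nontrivial M] (h : Function.Injective (unitSec i (EtCoh.const X M) U)) :
    CI (pullback.fst U.hom i) := by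
  intro C hC h0
  obtain ⟨m, hm⟩ := exists_ne (0 : M)
  obtain ⟨t, htC, htn⟩ := exists_indicator (EtCoh.const X M) U hC (cstU U m)
  have ht : unitSec i (EtCoh.const X M) U t = 0 := by
    refine (EtPushStalk.unit_eq_zero_iff i _ U t).mpr ?_
    rintro _ ⟨p, rfl⟩
    exact htn _ fun hp => Set.notMem_empty p (h0 ▸ hp)
  have t0 : t = 0 := h (ht.trans (map_zero _).symm)
  refine Set.eq_empty_of_forall_notMem fun x hx => hm ?_
  have h1 := notMem_neg _ (htC x hx)
  rw [t0] at h1
  exact eq_zero_of_notMem_cstU (notMem_of_sub_zero _ h1)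

/-- surjectivity from the clopen conditions -/
theorem unitSec_const_surjective [Finite M] (hi : CI (pullback.fst U.hom i)) (hs : CS (pullback.fst U.hom i)) :
    Function.Surjective (unitSec i (EtCoh.const X M) U) := by
  classical
  intro σ
  let C := EtCoh.const X M
  let B := (EtCoh.bc i).obj U
  let fst : B.left ⟶ U.left := pullback.fst U.hom i
  let R := fun (p : B.left) (m : M) =>
    p ∉ EtShriek.sectSupp ((EtCoh.pull i).obj C) B (σ - unitSec i C U (cstU U m))
  have hex : ∀ p, ∃ m, R p m := fun p => by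
    obtain ⟨V, a, t, q, hq, ht⟩ := exists_unit_near' i C U σ p
    obtain ⟨m, hm⟩ := exists_cst_near t (pullback.fst V.hom i q)
    refine ⟨m, ?_⟩
    have h2 : q ∉ EtShriek.sectSupp ((EtCoh.pull i).obj C) ((EtCoh.bc i).obj V)
        (unitSec i C V t - unitSec i C V (C.obj.map (toTopX V).op (cst m))) := by
      rw [← map_sub]
      exact fun h => hm ((EtPushStalk.mem_sectSupp_unit_iff i C V _ q).mp h)
    have h3 := notMem_sub_trans _ ht h2
    have hc : C.obj.map (toTopX V).op (cst m) = C.obj.map a.op (cstU U m) := by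
      rw [← hom_top_eq (a ≫ toTopX U) (toTopX V), op_comp, Functor.map_comp]
      rfl
    rw [hc, ← unitSec_map, ← map_sub, notMem_map_iff, hq] at h3
    exact h3
  choose f hf using hex
  have huniq : ∀ p m, R p m → m = f p := fun p m hm => by
    rw [← sub_eq_zero]
    have h := notMem_sub_trans _ (notMem_neg _ hm) (hf p)
    rw [← map_sub, cstU_sub] at h
    exact eq_zero_of_notMem_cstU (x := fst p) fun hc => h ((EtPushStalk.mem_sectSupp_unit_iff i C U _ p).mpr hc)
  have hlvl : ∀ m, IsOpen (f ⁻¹' {m}) := fun m => by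
    have e : f ⁻¹' {m} =
        (EtShriek.sectSupp ((EtCoh.pull i).obj C) B (σ - unitSec i C U (cstU U m)))ᶜ := by
      ext p
      exact ⟨fun h => h ▸ hf p, fun h => (huniq p m h).symm⟩
    rw [e]
    exact (EtSect.isClosed_sectSupp _ _).isOpen_compl
  have hlc : IsLocallyConstant f := IsLocallyConstant.iff_isOpen_fiber.mpr hlvl
  choose W hW hWpre using fun m => hs (f ⁻¹' {m}) (hlc.isClopen_fiber m)
  have hdisj : ∀ m m' (x : U.left), x ∈ W m → x ∈ W m' → m = m' := fun m m' x hx hx' => by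
    by_contra hne
    have h0 : W m ∩ W m' = ∅ := hi _ ((hW m).inter (hW m')) (by
      rw [Set.preimage_inter, hWpre, hWpre]
      exact Set.eq_empty_of_forall_notMem fun p hp => hne (hp.1.symm.trans hp.2))
    exact Set.notMem_empty x (h0 ▸ ⟨hx, hx'⟩)
  have hcov : ∀ x : U.left, ∃ m, x ∈ W m := fun x => by
    by_contra hne
    have h0 : (⋃ m, W m)ᶜ = ∅ := hi _ (isClopen_iUnion_of_finite hW).compl (by
      refine Set.eq_empty_of_forall_notMem fun p hp => hp (Set.mem_iUnion.2 ⟨f p, ?_⟩)
      exact (hWpre (f p)).ge (rfl : f p = f p))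
    exact Set.notMem_empty x (h0 ▸ fun hx => hne (Set.mem_iUnion.1 hx))
  obtain ⟨t, ht⟩ := exists_sect_of_partition C U W hW hdisj hcov (cstU U)
  refine ⟨t, eq_of_notMem _ fun p => notMem_sub_trans _ ?_ (notMem_neg _ (hf p))⟩
  rw [← map_sub]
  exact fun h => ht (f p) (fst p) ((hWpre (f p)).ge (rfl : f p = f p))
    ((EtPushStalk.mem_sectSupp_unit_iff i C U _ p).mp h)

/-- surjectivity gives the clopen condition -/
theorem cs_of_surjective [Nontrivial M] (h : Function.Surjective (unitSec i (EtCoh.const X M) U)) :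
    CS (pullback.fst U.hom i) := by
  intro C' hC'
  obtain ⟨m, hm⟩ := exists_ne (0 : M)
  obtain ⟨σ, hσC, hσn⟩ := exists_indicator ((EtCoh.pull i).obj (EtCoh.const X M)) ((EtCoh.bc i).obj U) hC'
    (unitSec i (EtCoh.const X M) U (cstU U m))
  obtain ⟨t, rfl⟩ := h σ
  refine ⟨EtShriek.sectSupp (EtCoh.const X M) U t, isClopen_sectSupp_const t, Set.ext fun p => ?_⟩
  refine (EtPushStalk.mem_sectSupp_unit_iff i (EtCoh.const X M) U t p).symm.trans ⟨fun hp => ?_, fun hp => by_contra fun hn => ?_⟩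
  · by_contra hpC
    exact hσn p hpC hp
  · refine hm ?_
    have h1 : p ∉ EtShriek.sectSupp ((EtCoh.pull i).obj (EtCoh.const X M)) ((EtCoh.bc i).obj U)
        (unitSec i (EtCoh.const X M) U (cstU U m)) := by
      refine notMem_of_sub_zero _ (notMem_sub_trans _ (notMem_neg _ (hσC p hp)) ?_)
      rw [sub_zero]
      exact hn
    exact eq_zero_of_notMem_cstU fun hc => h1 ((EtPushStalk.mem_sectSupp_unit_iff i _ U _ p).mpr hc)

end Groth.Agent.EtDepthClopen
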